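import Groth.Agent.ExtDescLib.Basic
import Groth.Agent.TwConstLib.Const

/-!
# Pieces of constant group schemes
-/

set_option autoImplicit false
set_option backward.isDefEq.respectTransparency false
universe u

open CategoryTheory CategoryTheory.Limits MonoidalCategory CartesianMonoidalCategory AlgebraicGeometry MonObj

namespace ExtDescLib

variable {S : Scheme.{u}} {Z : Type u} {G : Over S} (eG : G ≅ TwC.const S Z)

/-- The section of a constant scheme of given index. -/
noncomputable def piece (m : Z) : 𝟙_ (Over S) ⟶ G := TwC.pt S Z m ≫ eG.inv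

instance isOpenImmersion_piece (m : Z) : IsOpenImmersion (piece eG m).left := by
  haveI : IsIso eG.inv.left := inferInstance
  haveI : IsOpenImmersion (TwC.pt S Z m).left := inferInstanceAs (IsOpenImmersion (Sigma.ι (fun _ : Z => S) m))
  show IsOpenImmersion ((TwC.pt S Z m).left ≫ eG.inv.left)
  infer_instance

theorem exists_piece (x : G.left) : ∃ m, x ∈ Set.range (piece eG m).left.base := by
  obtain ⟨m, y, hy⟩ := TwConstLib.mem_range_sigmaι (eG.hom.left.base x)
  refine ⟨m, y, ?_⟩
  have e : eG.hom.left ≫ eG.inv.left = 𝟙 G.left := by rw [← Over.comp_left, eG.hom_inv_id, Over.id_left]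
  show eG.inv.left.base ((TwC.pt S Z m).left.base y) = x
  rw [show (TwC.pt S Z m).left.base y = eG.hom.left.base x from hy, ← Scheme.Hom.comp_apply, e]
  rfl

theorem piece_unique {m n : Z} {x : G.left} (hm : x ∈ Set.range (piece eG m).left.base)
    (hn : x ∈ Set.range (piece eG n).left.base) : m = n := by
  obtain ⟨a, rfl⟩ := hm
  obtain ⟨b, hb⟩ := hn
  have e : eG.inv.left ≫ eG.hom.left = 𝟙 _ := by rw [← Over.comp_left, eG.inv_hom_id, Over.id_left]
  have h : (TwC.pt S Z n).left.base b = (TwC.pt S Z m).left.base a := by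
    have := congrArg eG.hom.left.base hb
    simp only [piece, Over.comp_left, Scheme.Hom.comp_apply] at this
    rw [← Scheme.Hom.comp_apply eG.inv.left eG.hom.left, ← Scheme.Hom.comp_apply eG.inv.left eG.hom.left, e] at this
    exact this
  have h' : sigmaMk (fun _ : Z => S) ⟨n, b⟩ = sigmaMk (fun _ : Z => S) ⟨m, a⟩ := by
    rw [sigmaMk_mk, sigmaMk_mk]; exact h
  exact (congrArg Sigma.fst ((sigmaMk (fun _ : Z => S)).injective h')).symm

theorem isClopen_piece (m : Z) : IsClopen (Set.range (piece eG m).left.base) := by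
  refine ⟨?_, (piece eG m).left.opensRange.2⟩
  have h : (Set.range (piece eG m).left.base)ᶜ = ⋃ n ∈ {n : Z | n ≠ m}, Set.range (piece eG n).left.base := by
    ext x
    simp only [Set.mem_compl_iff, Set.mem_iUnion, Set.mem_setOf_eq, exists_prop]
    refine ⟨fun hx => ?_, fun ⟨n, hn, hxn⟩ hx => hn (piece_unique eG hxn hx)⟩
    obtain ⟨n, hn⟩ := exists_piece eG x
    exact ⟨n, fun h => hx (h ▸ hn), hn⟩
  rw [← isOpen_compl_iff, h]
  exact isOpen_biUnion fun n _ => (piece eG n).left.opensRange.2

/-- A morphism landing in one piece is constant. -/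
theorem eq_piece {T : Over S} (g : T ⟶ G) (m : Z)
    (h : Set.range g.left.base ⊆ Set.range (piece eG m).left.base) : g = toUnit T ≫ piece eG m := by
  let l : T ⟶ 𝟙_ (Over S) := Over.homMk (IsOpenImmersion.lift (piece eG m).left g.left h) (by
    rw [← Over.w (piece eG m), IsOpenImmersion.lift_fac_assoc, Over.w])
  have hl : l ≫ piece eG m = g := Over.OverMorphism.ext (IsOpenImmersion.lift_fac _ _ _)
  rw [← hl, toUnit_unique l (toUnit T)]

/-- Only finitely many pieces meet a quasi-compact image. -/
theorem finite_meeting {X : Type*} [TopologicalSpace X] [CompactSpace X] (f : X → G.left) (hf : Continuous f) :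
    {m : Z | ∃ x, f x ∈ Set.range (piece eG m).left.base}.Finite := by
  obtain ⟨t, ht⟩ := (isCompact_range hf).elim_finite_subcover (fun m : Z => Set.range (piece eG m).left.base)
    (fun m => (piece eG m).left.opensRange.2) (fun x _ => Set.mem_iUnion.2 (exists_piece eG x))
  refine t.finite_toSet.subset ?_
  rintro m ⟨x, hx⟩
  obtain ⟨n, hn, hxn⟩ := Set.mem_iUnion₂.1 (ht ⟨x, rfl⟩)
  exact piece_unique eG hxn hx ▸ hn

/-- A constant scheme is étale over its base. -/
theorem etale_hom (eG : G ≅ TwC.const S Z) : Etale G.hom := by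
  haveI : IsIso eG.hom.left := inferInstance
  haveI : Etale (Sigma.desc fun _ : Z => 𝟙 S) := by
    refine IsZariskiLocalAtSource.of_openCover (sigmaOpenCover (fun _ : Z => S)) fun m => ?_
    change Etale (Sigma.ι (fun _ : Z => S) m ≫ Sigma.desc fun _ : Z => 𝟙 S)
    rw [Sigma.ι_desc]
    infer_instance
  rw [← Over.w eG.hom]
  exact inferInstanceAs (Etale (eG.hom.left ≫ Sigma.desc fun _ : Z => 𝟙 S))

variable [Group Z] [GrpObj G] (hG : TwC.IsConstGrp Z G eG)

include hG in
theorem piece_mul (m n : Z) : piece eG m * piece eG n = piece eG (m * n) := hG m n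

include hG in
theorem piece_one : piece eG 1 = 1 := by
  have h := piece_mul eG hG 1 1
  rw [_root_.mul_one] at h
  exact mul_eq_left.1 h

include hG in
theorem piece_pow (m : Z) (a : ℕ) : piece eG m ^ a = piece eG (m ^ a) := by
  induction a with
  | zero => rw [pow_zero, pow_zero, piece_one eG hG]
  | succ a ih => rw [pow_succ, pow_succ, ih, piece_mul eG hG]

end ExtDescLib
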