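import Mathlib
import Groth.Prelude.Def_NonAbH2
import Groth.Agent.TorsExtLib.Props

/-!
# Descending morphisms along fppf locally split quotients of group schemes
-/

set_option autoImplicit false
set_option backward.isDefEq.respectTransparency false
universe u

open CategoryTheory CategoryTheory.Limits MonoidalCategory CartesianMonoidalCategory AlgebraicGeometry MonObj

namespace ExtDescLib

/-- An fppf cover of `Y` with a lift to `X`. -/
def HasCover {S : Scheme.{u}} {X Y : Over S} (q : X ⟶ Y) : Prop :=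
  ∃ (T : Over S) (π : T ⟶ Y) (t : T ⟶ X), Flat π.left ∧ Surjective π.left ∧ LocallyOfFinitePresentation π.left ∧ t ≫ q = π

theorem hasCover_of_locallyTrivial {S : Scheme.{u}} {X Y : Over S} (q : X ⟶ Y)
    (h : NonAbH1.IsLocallyTrivialFor Scheme.fppfPrecoverage (Over.mk q.left : Over Y.left)) : HasCover q := by
  obtain ⟨T, hf, hs, hl, ⟨t⟩⟩ := TorsExtLib.exists_cover h
  have ht : t.left ≫ q.left = T.hom := Over.w t
  exact ⟨Over.mk (T.hom ≫ Y.hom), Over.homMk T.hom rfl,
    Over.homMk t.left (show t.left ≫ X.hom = T.hom ≫ Y.hom by rw [← Over.w q, reassoc_of% ht]),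
    hf, hs, hl, Over.OverMorphism.ext ht⟩

theorem epi_cover {S : Scheme.{u}} {T Y : Over S} (π : T ⟶ Y) [Flat π.left] [Surjective π.left]
    [LocallyOfFinitePresentation π.left] {Z : Over S} (a b : Y ⟶ Z) (h : π ≫ a = π ≫ b) : a = b := by
  ext1
  rw [← cancel_epi π.left]
  exact congrArg Over.Hom.left h

theorem cancel_cover {S : Scheme.{u}} {X Y Z : Over S} (q : X ⟶ Y) (hq : HasCover q) (a b : Y ⟶ Z)
    (h : q ≫ a = q ≫ b) : a = b := by
  obtain ⟨T, π, t, hf, hs, hl, rfl⟩ := hq
  haveI := hf; haveI := hs; haveI := hl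
  exact epi_cover (t ≫ q) a b (by rw [Category.assoc, h, Category.assoc])

theorem descend_cover {S : Scheme.{u}} {X Y Z : Over S} (q : X ⟶ Y) (hq : HasCover q) (d : X ⟶ Z)
    (hinv : ∀ (T : Over S) (a b : T ⟶ X), a ≫ q = b ≫ q → a ≫ d = b ≫ d) : ∃ c, q ≫ c = d := by
  obtain ⟨T, π, t, hf, hs, hl, hπ⟩ := hq
  haveI := hf; haveI := hs; haveI := hl
  have hl' : ∀ {W : Scheme.{u}} (g₁ g₂ : W ⟶ T.left), g₁ ≫ π.left = g₂ ≫ π.left →
      g₁ ≫ (t ≫ d).left = g₂ ≫ (t ≫ d).left := fun {W} g₁ g₂ e => by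
    let V : Over S := Over.mk (g₁ ≫ T.hom)
    let a : V ⟶ T := Over.homMk g₁ rfl
    let b : V ⟶ T := Over.homMk g₂ (show g₂ ≫ T.hom = g₁ ≫ T.hom by rw [← Over.w π, reassoc_of% e])
    have e' : a ≫ π = b ≫ π := Over.OverMorphism.ext e
    have h := hinv V (a ≫ t) (b ≫ t) (by rw [Category.assoc, Category.assoc, hπ, e'])
    rw [Category.assoc, Category.assoc] at h
    exact congrArg Over.Hom.left h
  let c : Y ⟶ Z := Over.homMk (EffectiveEpi.desc π.left _ hl') (by
    rw [← cancel_epi π.left, ← Category.assoc, EffectiveEpi.fac, Over.w, Over.w])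
  have hc : π ≫ c = t ≫ d := Over.OverMorphism.ext (EffectiveEpi.fac π.left _ hl')
  refine ⟨c, ?_⟩
  let p := pullback.fst q.left π.left
  let W : Over S := Over.mk (p ≫ X.hom)
  let pX : W ⟶ X := Over.homMk p rfl
  let r : W ⟶ T := Over.homMk (pullback.snd q.left π.left)
    (show pullback.snd q.left π.left ≫ T.hom = p ≫ X.hom by
      rw [← Over.w π, ← Over.w q, pullback.condition_assoc])
  have hr : pX ≫ q = r ≫ π := Over.OverMorphism.ext pullback.condition
  haveI : Flat pX.left := inferInstanceAs (Flat (pullback.fst q.left π.left))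
  haveI : Surjective pX.left := inferInstanceAs (Surjective (pullback.fst q.left π.left))
  haveI : LocallyOfFinitePresentation pX.left :=
    inferInstanceAs (LocallyOfFinitePresentation (pullback.fst q.left π.left))
  refine epi_cover pX _ _ ?_
  rw [reassoc_of% hr, hc]
  have h := hinv W (r ≫ t) pX (by rw [Category.assoc, hπ, hr])
  rwa [Category.assoc] at h

theorem hasCover_tensor {S : Scheme.{u}} {X Y X' Y' : Over S} (q : X ⟶ Y) (q' : X' ⟶ Y') (hq : HasCover q)
    (hq' : HasCover q') : HasCover (q ⊗ₘ q') := by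
  obtain ⟨T, π, t, hf, hs, hl, hπ⟩ := hq
  obtain ⟨T', π', t', hf', hs', hl', hπ'⟩ := hq'
  haveI := hf; haveI := hs; haveI := hl; haveI := hf'; haveI := hs'; haveI := hl'
  have sq1 : IsPullback (fst T T').left (π ▷ T').left π.left (fst Y T').left := by
    refine IsPullback.of_bot ?_ (by rw [← Over.comp_left, ← Over.comp_left, whiskerRight_fst])
      (TorsExtLib.isPullback_fst_snd Y T')
    have : (π ▷ T').left ≫ (snd Y T').left = (snd T T').left := by rw [← Over.comp_left, whiskerRight_snd]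
    rw [this, Over.w π]
    exact TorsExtLib.isPullback_fst_snd T T'
  have sq2 : IsPullback (snd Y T').left (Y ◁ π').left π'.left (snd Y Y').left := by
    refine IsPullback.of_bot ?_ (by rw [← Over.comp_left, ← Over.comp_left, whiskerLeft_snd])
      (TorsExtLib.isPullback_fst_snd Y Y').flip
    have : (Y ◁ π').left ≫ (fst Y Y').left = (fst Y T').left := by rw [← Over.comp_left, whiskerLeft_fst]
    rw [this, Over.w π']
    exact (TorsExtLib.isPullback_fst_snd Y T').flip
  haveI : Flat (π ▷ T').left := MorphismProperty.of_isPullback sq1 hf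
  haveI : Surjective (π ▷ T').left := MorphismProperty.of_isPullback sq1 hs
  haveI : LocallyOfFinitePresentation (π ▷ T').left := MorphismProperty.of_isPullback sq1 hl
  haveI : Flat (Y ◁ π').left := MorphismProperty.of_isPullback sq2 hf'
  haveI : Surjective (Y ◁ π').left := MorphismProperty.of_isPullback sq2 hs'
  haveI : LocallyOfFinitePresentation (Y ◁ π').left := MorphismProperty.of_isPullback sq2 hl'
  refine ⟨T ⊗ T', π ⊗ₘ π', t ⊗ₘ t', ?_, ?_, ?_, by rw [tensorHom_comp_tensorHom, hπ, hπ']⟩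
  all_goals
    rw [MonoidalCategory.tensorHom_def, Over.comp_left]
    infer_instance

/-- Points of a kernel. -/
theorem exists_ker {S : Scheme.{u}} {G X Y : Over S} [GrpObj G] [GrpObj X] [GrpObj Y] (w : G ⟶ X) (q : X ⟶ Y)
    (hp : IsPullback (fst X G) ((X ◁ w) ≫ μ[X]) q q) {T : Over S} (a b : T ⟶ X) (hab : a ≫ q = b ≫ q) :
    ∃! g : T ⟶ G, a * (g ≫ w) = b := by
  have e : lift a (hp.lift a b hab ≫ snd X G) = hp.lift a b hab :=
    CartesianMonoidalCategory.hom_ext _ _ (by rw [lift_fst, hp.lift_fst]) (by rw [lift_snd])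
  refine ⟨hp.lift a b hab ≫ snd X G, ?_, fun g hg => ?_⟩
  · have h := hp.lift_snd a b hab
    generalize hp.lift a b hab = L at h e ⊢
    rw [← e, lift_whiskerLeft_assoc] at h
    exact h
  · have h : lift a g = hp.lift a b hab := hp.hom_ext (by rw [lift_fst, hp.lift_fst])
      (by rw [hp.lift_snd, lift_whiskerLeft_assoc]; exact hg)
    rw [← h, lift_snd]

/-- The identity has an fppf cover. -/
theorem hasCover_id {S : Scheme.{u}} (Y : Over S) : HasCover (𝟙 Y) :=
  ⟨Y, 𝟙 Y, 𝟙 Y, by rw [Over.id_left]; infer_instance, by rw [Over.id_left]; infer_instance,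
    by rw [Over.id_left]; infer_instance, Category.comp_id _⟩

end ExtDescLib
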